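import Groth.Agent.FunFldLib.Proj.Map

/-! Fibres of projective maps. -/

set_option autoImplicit false

open WithZero

namespace Groth.Agent.FunFldLib.Proj

open FunFld Groth.Agent.FunFldLib

variable {k K : Type*} [Field k] [Field K] [Algebra k K] {ι : Type*} {φ : ι → K} {P Q : Place k K}

theorem sameImage_norm {j : ι} (hj0 : φ j ≠ 0) (hj : ∀ i, P.1 (φ i) ≤ P.1 (φ j)) (h : SameImage φ P Q) :
    (∀ i, Q.1 (φ i) ≤ Q.1 (φ j)) ∧
      ∀ i, ∃ c : k, P.1 (φ i / φ j - algebraMap k K c) < 1 ∧ Q.1 (φ i / φ j - algebraMap k K c) < 1 := by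
  obtain ⟨l, hl0, hlP, hlQ, hc⟩ := h
  choose c hcP hcQ using hc
  have hP1 : P.1 (φ j / φ l) = 1 := by rw [map_div₀, le_antisymm (hlP j) (hj l), div_self (v_ne_zero P hl0)]
  have hcj : c j ≠ 0 := fun h0 => by
    have := hcP j
    rw [h0, map_zero, sub_zero, hP1] at this
    exact lt_irrefl _ this
  have hQ1 : Q.1 (φ j / φ l) = 1 := by
    have hlt : Q.1 (φ j / φ l - algebraMap k K (c j)) < Q.1 (algebraMap k K (c j)) := by
      rw [v_algebraMap Q hcj]; exact hcQ j
    rw [show φ j / φ l = (φ j / φ l - algebraMap k K (c j)) + algebraMap k K (c j) by ring,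
      Valuation.map_add_eq_of_lt_right _ hlt, v_algebraMap Q hcj]
  refine ⟨fun i => (hlQ i).trans ?_, fun i => ⟨c i / c j, ?_, ?_⟩⟩
  · rw [map_div₀, div_eq_one_iff_eq (v_ne_zero Q hl0)] at hQ1
    rw [hQ1]
  all_goals
    have hne : algebraMap k K (c j) ≠ 0 := (_root_.map_ne_zero _).2 hcj
    rw [show φ i / φ j - algebraMap k K (c i / c j) =
      ((φ i / φ l - algebraMap k K (c i)) - algebraMap k K (c i / c j) * (φ j / φ l - algebraMap k K (c j))) / (φ j / φ l) by
      rw [map_div₀]; field_simp; ring]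
  · rw [map_div₀, hP1, div_one]
    refine (P.1.map_sub _ _).trans_lt (max_lt (hcP i) ?_)
    rw [map_mul]
    exact (mul_le_mul' (P.2.1 _) le_rfl).trans_lt (by rw [one_mul]; exact hcP j)
  · rw [map_div₀, hQ1, div_one]
    refine (Q.1.map_sub _ _).trans_lt (max_lt (hcQ i) ?_)
    rw [map_mul]
    exact (mul_le_mul' (Q.2.1 _) le_rfl).trans_lt (by rw [one_mul]; exact hcQ j)

theorem sameImage_lin {j : ι} (hj0 : φ j ≠ 0) (hj : ∀ i, P.1 (φ i) ≤ P.1 (φ j)) (h : SameImage φ P Q)
    {v : K} (hv : v ∈ Submodule.span k (Set.range φ)) :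
    ∃ c : k, P.1 (v / φ j - algebraMap k K c) < 1 ∧ Q.1 (v / φ j - algebraMap k K c) < 1 := by
  obtain ⟨-, hc⟩ := sameImage_norm hj0 hj h
  induction hv using Submodule.span_induction with
  | mem x hx => obtain ⟨i, rfl⟩ := hx; exact hc i
  | zero => exact ⟨0, by simp⟩
  | add a b _ _ ha hb =>
    obtain ⟨c, hc1, hc2⟩ := ha
    obtain ⟨d, hd1, hd2⟩ := hb
    refine ⟨c + d, ?_, ?_⟩ <;>
      rw [show (a + b) / φ j - algebraMap k K (c + d) = (a / φ j - algebraMap k K c) + (b / φ j - algebraMap k K d) by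
        rw [map_add]; ring]
    · exact Valuation.map_add_lt _ hc1 hd1
    · exact Valuation.map_add_lt _ hc2 hd2
  | smul r a _ ha =>
    obtain ⟨c, hc1, hc2⟩ := ha
    refine ⟨r * c, ?_, ?_⟩ <;>
      rw [show r • a / φ j - algebraMap k K (r * c) = r • (a / φ j - algebraMap k K c) by
        rw [Algebra.smul_def, Algebra.smul_def, map_mul]; ring]
    · exact (smul_le _ _ _).trans_lt hc1
    · exact (smul_le _ _ _).trans_lt hc2

theorem sameImage_self [IsAlgClosed k] (hK : IsFunctionField k K) [Finite ι] (h : ∃ i, φ i ≠ 0) :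
    SameImage φ P P := by
  obtain ⟨j, hj0, hj⟩ := exists_max φ P h
  exact ⟨j, hj0, hj, hj, fun i => (exists_res hK P (ratio_le hj0 hj i)).imp fun c hc => ⟨hc, hc⟩⟩

/-- the local ring lies in exactly the valuation rings of the fibre -/
theorem loc_le_iff [IsAlgClosed k] (hK : IsFunctionField k K) {j : ι} (hj0 : φ j ≠ 0)
    (hj : ∀ i, P.1 (φ i) ≤ P.1 (φ j)) :
    (∀ z, InLocRing φ P z → Q.1 z ≤ 1) ↔ SameImage φ P Q := by
  constructor
  · intro h
    have hA : ∀ a ∈ chartRing k φ j, Q.1 a ≤ 1 := fun a ha => h a ((inLocRing_iff hj0 hj a).2 (inLoc_of_mem ha))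
    have hQj : ∀ i, Q.1 (φ i) ≤ Q.1 (φ j) := fun i => by
      have := hA _ (Algebra.subset_adjoin ⟨i, rfl⟩)
      rwa [map_div₀, div_le_one₀ (zero_lt_iff.2 (v_ne_zero Q hj0))] at this
    refine ⟨j, hj0, hj, hQj, fun i => ?_⟩
    obtain ⟨c, hc⟩ := exists_res hK P (ratio_le hj0 hj i)
    refine ⟨c, hc, ?_⟩
    set a := φ i / φ j - algebraMap k K c
    have ha : a ∈ chartRing k φ j := sub_mem (Algebra.subset_adjoin ⟨i, rfl⟩) (Subalgebra.algebraMap_mem _ c)
    obtain ⟨d, hd⟩ := exists_res hK Q (hA a ha)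
    rcases eq_or_ne d 0 with rfl | hd0
    · simpa using hd
    exfalso
    set b := a - algebraMap k K d
    have hb : b ∈ chartRing k φ j := sub_mem ha (Subalgebra.algebraMap_mem _ d)
    have hPb : P.1 b = 1 := by
      have : P.1 a < P.1 (algebraMap k K d) := by rw [v_algebraMap P hd0]; exact hc
      rw [show b = a - algebraMap k K d from rfl, Valuation.map_sub_swap, Valuation.map_sub_eq_of_lt_left _ this,
        v_algebraMap P hd0]
    have hb0 : b ≠ 0 := fun h0 => by rw [h0, map_zero] at hPb; exact zero_ne_one hPb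
    have hinv := h b⁻¹ ((inLocRing_iff hj0 hj _).2 ⟨1, one_mem _, b, hb, hPb, inv_mul_cancel₀ hb0⟩)
    rw [map_inv₀, inv_le_one₀ (zero_lt_iff.2 (v_ne_zero Q hb0))] at hinv
    exact absurd hd (not_lt.2 hinv)
  · intro h z hz
    obtain ⟨hQj, hc⟩ := sameImage_norm hj0 hj h
    obtain ⟨a, ha, b, hb, hb1, hab⟩ := (inLocRing_iff hj0 hj z).1 hz
    have key : ∀ w ∈ chartRing k φ j, ∃ c : k, P.1 (w - algebraMap k K c) < 1 ∧ Q.1 (w - algebraMap k K c) < 1 := by
      intro w hw
      induction hw using Algebra.adjoin_induction with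
      | mem x hx => obtain ⟨i, rfl⟩ := hx; exact hc i
      | algebraMap c => exact ⟨c, by simp⟩
      | add u v _ _ hu hv =>
        obtain ⟨c, hc1, hc2⟩ := hu
        obtain ⟨d, hd1, hd2⟩ := hv
        refine ⟨c + d, ?_, ?_⟩ <;>
          rw [show u + v - algebraMap k K (c + d) = (u - algebraMap k K c) + (v - algebraMap k K d) by rw [map_add]; ring]
        · exact Valuation.map_add_lt _ hc1 hd1
        · exact Valuation.map_add_lt _ hc2 hd2
      | mul u v hu' hv' hu hv =>
        obtain ⟨c, hc1, hc2⟩ := hu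
        obtain ⟨d, hd1, hd2⟩ := hv
        have hv1 : ∀ R : Place k K, (∀ i, R.1 (φ i) ≤ R.1 (φ j)) → R.1 v ≤ 1 := fun R hR =>
          int_adjoin _ R (ratio_le hj0 hR) hv'
        refine ⟨c * d, ?_, ?_⟩ <;>
          rw [show u * v - algebraMap k K (c * d) = (u - algebraMap k K c) * v + algebraMap k K c * (v - algebraMap k K d) by
            rw [map_mul]; ring]
        · refine Valuation.map_add_lt _ ?_ ?_
          · rw [map_mul]; exact (mul_le_mul' le_rfl (hv1 P hj)).trans_lt (by rwa [mul_one])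
          · rw [map_mul]; exact (mul_le_mul' (P.2.1 c) le_rfl).trans_lt (by rwa [one_mul])
        · refine Valuation.map_add_lt _ ?_ ?_
          · rw [map_mul]; exact (mul_le_mul' le_rfl (hv1 Q hQj)).trans_lt (by rwa [mul_one])
          · rw [map_mul]; exact (mul_le_mul' (Q.2.1 c) le_rfl).trans_lt (by rwa [one_mul])
    obtain ⟨c, hcP, hcQ⟩ := key b hb
    have hc0 : c ≠ 0 := fun h0 => by rw [h0, map_zero, sub_zero, hb1] at hcP; exact lt_irrefl _ hcP
    have hQb : Q.1 b = 1 := by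
      have hlt : Q.1 (b - algebraMap k K c) < Q.1 (algebraMap k K c) := by rw [v_algebraMap Q hc0]; exact hcQ
      rw [show b = (b - algebraMap k K c) + algebraMap k K c by ring, Valuation.map_add_eq_of_lt_right _ hlt,
        v_algebraMap Q hc0]
    have h1 := congrArg Q.1 hab
    rw [map_mul, hQb, mul_one] at h1
    exact h1 ▸ int_adjoin _ Q (ratio_le hj0 hQj) ha

/-- a nonsingular point is alone in its fibre -/
theorem eq_of_sameImage [IsAlgClosed k] (hK : IsFunctionField k K) [Finite ι] (h0 : ∃ i, φ i ≠ 0)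
    (hns : IsNonsingularAt φ P) (h : SameImage φ P Q) : Q = P := by
  obtain ⟨j, hj0, hj⟩ := exists_max φ P h0
  exact (ext_of_le (P := P) (Q := Q) fun z hz => (loc_le_iff hK hj0 hj).2 h z (hns z hz)).symm

theorem fibre_finite [IsAlgClosed k] (hK : IsFunctionField k K) [Finite ι] {j l : ι} (hj0 : φ j ≠ 0)
    (hl : φ l / φ j ∉ Set.range (algebraMap k K)) (hj : ∀ i, P.1 (φ i) ≤ P.1 (φ j)) :
    {Q : Place k K | SameImage φ P Q}.Finite := by
  obtain ⟨c, hc⟩ := exists_res hK P (ratio_le hj0 hj l)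
  refine (finite_ord_support hK.1 (φ l / φ j - algebraMap k K c)).subset fun Q hQ => ?_
  obtain ⟨-, hcs⟩ := sameImage_norm hj0 hj hQ
  obtain ⟨c', hc1, hc2⟩ := hcs l
  have : c' = c := by
    by_contra hne
    have h1 : P.1 (algebraMap k K (c' - c)) = 1 := v_algebraMap P (sub_ne_zero.2 hne)
    rw [show algebraMap k K (c' - c) = (φ l / φ j - algebraMap k K c) - (φ l / φ j - algebraMap k K c') by
      rw [map_sub]; ring] at h1
    have := (P.1.map_sub _ _).trans_lt (max_lt hc hc1)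
    rw [h1] at this
    exact lt_irrefl _ this
  subst this
  have hne : φ l / φ j - algebraMap k K c' ≠ 0 := fun h => hl ⟨c', (sub_eq_zero.1 h).symm⟩
  have := (v_lt_one_iff Q hne).1 hc2
  simp only [Function.mem_support]
  omega

theorem exists_nonconst {n : ℕ} {φ : Fin (n + 1) → K} (hn : 1 ≤ n) (hφ : LinearIndependent k φ)
    (j : Fin (n + 1)) : ∃ l, φ l / φ j ∉ Set.range (algebraMap k K) := by
  have : Nontrivial (Fin (n + 1)) := Fin.nontrivial_iff_two_le.2 (by omega)
  obtain ⟨l, hl⟩ := exists_ne j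
  refine ⟨l, fun ⟨c, hc⟩ => ?_⟩
  have h : φ l = c • φ j := by
    rw [Algebra.smul_def, hc, div_mul_cancel₀ _ (hφ.ne_zero j)]
  have h2 := hφ.notMem_span_image (s := {j}) (x := l) (by simpa using hl)
  rw [Set.image_singleton] at h2
  exact h2 (h ▸ Submodule.smul_mem _ _ (Submodule.subset_span rfl))

end Groth.Agent.FunFldLib.Proj
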