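import Groth.Agent.FunFldLib.Proj.Image
import Mathlib.RingTheory.Nakayama
import Mathlib.LinearAlgebra.FiniteDimensional.Lemmas
import Mathlib.Algebra.MvPolynomial.PDeriv

/-! The Jacobian criterion. -/

set_option autoImplicit false

open WithZero

namespace Groth.Agent.FunFldLib.Proj

open FunFld Groth.Agent.FunFldLib MvPolynomial

variable {k K : Type*} [Field k] [Field K] [Algebra k K] {n : ℕ}

/-- the gradient at a point -/
noncomputable def grad (a : Fin n → k) (G : MvPolynomial (Fin n) k) : Fin n → k :=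
  fun j => eval a (pderiv j G)

/-- gradients of the relations of `r` -/
noncomputable def relSpan (r : Fin n → K) (a : Fin n → k) : Submodule k (Fin n → k) :=
  Submodule.span k {g | ∃ G : MvPolynomial (Fin n) k, aeval r G = 0 ∧ g = grad a G}

theorem expansion (a : Fin n → k) (G : MvPolynomial (Fin n) k) :
    ∃ H : Fin n → MvPolynomial (Fin n) k, (∀ j, eval a (H j) = 0) ∧
      G = C (eval a G) + ∑ j, C (grad a G j) * (X j - C (a j)) + ∑ j, (X j - C (a j)) * H j := by
  classical
  induction G using MvPolynomial.induction_on with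
  | C c => exact ⟨fun _ => 0, fun j => map_zero _, by simp [grad]⟩
  | add p q hp hq =>
    obtain ⟨H, hH, hp'⟩ := hp
    obtain ⟨H', hH', hq'⟩ := hq
    refine ⟨fun j => H j + H' j, fun j => by simp [hH, hH'], ?_⟩
    conv_lhs => rw [hp', hq']
    simp only [grad, map_add, add_mul, mul_add, Finset.sum_add_distrib]
    ring
  | mul_X p i hp =>
    obtain ⟨H, hH, hp'⟩ := hp
    refine ⟨fun j => C (a i) * H j + if j = i then p - C (eval a p) else 0, fun j => by
      show eval a (C (a i) * H j + if j = i then p - C (eval a p) else 0) = 0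
      split_ifs <;> simp [hH], ?_⟩
    have hg : ∀ j, grad a (p * X i) j = grad a p j * a i + if j = i then eval a p else 0 := fun j => by
      rw [grad, pderiv_mul, map_add, map_mul, map_mul, eval_X]
      congr 1
      rcases eq_or_ne j i with rfl | h
      · simp
      · simp [pderiv_X_of_ne h.symm, h]
    simp only [hg, map_add, map_mul, eval_X, add_mul, mul_add, Finset.sum_add_distrib, apply_ite C, C_0, mul_ite,
      ite_mul, zero_mul, mul_zero, Finset.sum_ite_eq', Finset.mem_univ, if_true]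
    conv_lhs => rw [show p * X i = C (a i) * p + (X i - C (a i)) * p by ring]
    conv_lhs => enter [1, 2]; rw [hp']
    rw [mul_add, mul_add, Finset.mul_sum, Finset.mul_sum]
    have e1 : ∑ j, C (a i) * (C (grad a p j) * (X j - C (a j))) = ∑ j, C (grad a p j) * C (a i) * (X j - C (a j)) :=
      Finset.sum_congr rfl fun j _ => by ring
    have e2 : ∑ j, C (a i) * ((X j - C (a j)) * H j) = ∑ j, (X j - C (a j)) * (C (a i) * H j) :=
      Finset.sum_congr rfl fun j _ => by ring
    rw [e1, e2]
    ring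

variable {r : Fin n → K} {P : Place k K} {a : Fin n → k}

theorem aeval_int (hr : ∀ j, P.1 (r j) ≤ 1) (G : MvPolynomial (Fin n) k) : P.1 (aeval r G) ≤ 1 :=
  int_adjoin r P hr (Algebra.adjoin_range_eq_range_aeval k r ▸ ⟨G, rfl⟩)

theorem aeval_residue (hr : ∀ j, P.1 (r j) ≤ 1) (ha : ∀ j, P.1 (r j - algebraMap k K (a j)) < 1)
    (G : MvPolynomial (Fin n) k) : P.1 (aeval r G - algebraMap k K (eval a G)) < 1 := by
  obtain ⟨H, -, hG⟩ := expansion a G
  conv_lhs => rw [hG]
  simp only [map_add, map_sum, map_mul, map_sub, aeval_C, aeval_X, eval_C]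
  simp only [eval_X, sub_self, mul_zero, zero_mul, Finset.sum_const_zero, add_zero, map_zero]
  rw [show ∀ x y z : K, x + y + z - x = y + z from fun x y z => by ring]
  refine Valuation.map_add_lt _ (Valuation.map_sum_lt' _ zero_lt_one fun j _ => ?_)
    (Valuation.map_sum_lt' _ zero_lt_one fun j _ => ?_)
  · rw [map_mul]
    exact (mul_le_mul' (P.2.1 _) le_rfl).trans_lt (by rw [one_mul]; exact ha j)
  · rw [map_mul]
    exact (mul_le_mul' le_rfl (aeval_int hr _)).trans_lt (by rw [mul_one]; exact ha j)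

theorem eval_eq_zero (hr : ∀ j, P.1 (r j) ≤ 1) (ha : ∀ j, P.1 (r j - algebraMap k K (a j)) < 1)
    {G : MvPolynomial (Fin n) k} (hG : P.1 (aeval r G) < 1) : eval a G = 0 := by
  by_contra h
  have h1 : P.1 (algebraMap k K (eval a G)) = 1 := v_algebraMap P h
  rw [show algebraMap k K (eval a G) = aeval r G - (aeval r G - algebraMap k K (eval a G)) by ring] at h1
  exact lt_irrefl _ (h1 ▸ (P.1.map_sub _ _).trans_lt (max_lt hG (aeval_residue hr ha G)))

theorem lin_le_two (hr : ∀ j, P.1 (r j) ≤ 1) (ha : ∀ j, P.1 (r j - algebraMap k K (a j)) < 1)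
    {c : Fin n → k} (hc : c ∈ relSpan r a) :
    P.1 (∑ j, algebraMap k K (c j) * (r j - algebraMap k K (a j))) ≤ exp (-2) := by
  induction hc using Submodule.span_induction with
  | mem g hg =>
    obtain ⟨G, hG, rfl⟩ := hg
    obtain ⟨H, hH, hG'⟩ := expansion a G
    have h0 : eval a G = 0 := eval_eq_zero hr ha (by rw [hG, map_zero]; exact zero_lt_one)
    have h := congrArg (aeval r) hG'
    rw [hG, h0] at h
    simp only [map_add, map_sum, map_mul, map_sub, aeval_C, aeval_X, map_zero, zero_add] at h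
    rw [eq_neg_of_add_eq_zero_left h.symm, Valuation.map_neg]
    refine Valuation.map_sum_le _ fun j _ => ?_
    have hlt : P.1 (aeval r (H j)) < 1 := by
      have := aeval_residue hr ha (H j)
      rwa [hH, map_zero, sub_zero] at this
    rw [map_mul]
    refine (mul_le_mul' ((lt_one_iff_le _).1 (ha j)) ((lt_one_iff_le _).1 hlt)).trans ?_
    rw [← exp_add, exp_le_exp]; norm_num
  | zero => simp
  | add b c _ _ hb hc =>
    simp only [Pi.add_apply, map_add, add_mul, Finset.sum_add_distrib]
    exact (P.1.map_add _ _).trans (max_le hb hc)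
  | smul t b _ hb =>
    simp only [Pi.smul_apply, smul_eq_mul, map_mul, mul_assoc, ← Finset.mul_sum]
    exact (mul_le_mul' (P.2.1 t) hb).trans_eq (one_mul _)

theorem mem_adjoin_iff_aeval {z : K} :
    z ∈ Algebra.adjoin k (Set.range r) ↔ ∃ G : MvPolynomial (Fin n) k, aeval r G = z := by
  rw [Algebra.adjoin_range_eq_range_aeval]; rfl

variable [IsAlgClosed k] (hK : IsFunctionField k K)
include hK

/-- with enough relations the local ring is the valuation ring -/
theorem loc_of_rel (hgen : IntermediateField.adjoin k (Set.range r) = ⊤) (hr : ∀ j, P.1 (r j) ≤ 1)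
    (ha : ∀ j, P.1 (r j - algebraMap k K (a j)) < 1) {lam : Fin n → k}
    (hlam : relSpan r a ⊔ Submodule.span k {lam} = ⊤) (z : K) (hz : P.1 z ≤ 1) :
    InLoc (Algebra.adjoin k (Set.range r)) P z := by
  classical
  set A := Algebra.adjoin k (Set.range r) with hA
  set R := locAlg A P with hR
  have hRint : ∀ x : R, P.1 (x : K) ≤ 1 := fun x => by
    obtain ⟨b, hb, c, -, hc1, hbc⟩ := x.2
    have := congrArg P.1 hbc
    rw [map_mul, hc1, mul_one] at this
    exact this ▸ int_adjoin r P hr hb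
  have hunit : ∀ x : R, P.1 (x : K) = 1 → IsUnit x := by
    intro x hx
    obtain ⟨b, hb, c, hc, hc1, hbc⟩ := x.2
    have hbv : P.1 b = 1 := by rw [← hbc, map_mul, hx, hc1, one_mul]
    have hx0 : (x : K) ≠ 0 := fun h => by rw [h, map_zero] at hx; exact zero_ne_one hx
    refine IsUnit.of_mul_eq_one ⟨(x : K)⁻¹, c, hc, b, hb, hbv, ?_⟩ (Subtype.ext (mul_inv_cancel₀ hx0))
    rw [← hbc]; field_simp
  have hAR : ∀ x ∈ A, x ∈ R := fun x hx => inLoc_of_mem hx
  have hrA : ∀ j, r j - algebraMap k K (a j) ∈ A := fun j =>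
    sub_mem (Algebra.subset_adjoin ⟨j, rfl⟩) (Subalgebra.algebraMap_mem A _)
  let l : Fin n → R := fun j => ⟨r j - algebraMap k K (a j), hAR _ (hrA j)⟩
  let I : Ideal R := Ideal.span (Set.range l)
  have hAmem : ∀ G, aeval r G ∈ R := fun G => hAR _ (mem_adjoin_iff_aeval.2 ⟨G, rfl⟩)
  let ev : MvPolynomial (Fin n) k → R := fun G => ⟨aeval r G, hAmem G⟩
  have hI : ∀ G, eval a G = 0 → ev G ∈ I := by
    intro G hG
    obtain ⟨H, -, hG'⟩ := expansion a G
    have e : ev G = ∑ j, algebraMap k R (grad a G j) * l j + ∑ j, l j * ev (H j) := by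
      apply Subtype.ext
      have h := congrArg (aeval r) hG'
      rw [hG] at h
      simp only [map_add, map_sum, map_mul, map_sub, aeval_C, aeval_X, map_zero, zero_add] at h
      simp only [AddMemClass.coe_add, AddSubmonoidClass.coe_finsetSum, MulMemClass.coe_mul]
      exact h
    rw [e]
    exact add_mem (sum_mem fun j _ => I.mul_mem_left _ (Ideal.subset_span ⟨j, rfl⟩))
      (sum_mem fun j _ => I.mul_mem_right _ (Ideal.subset_span ⟨j, rfl⟩))
  have hmax : ∀ x : R, P.1 (x : K) < 1 → x ∈ I := by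
    intro x hx
    obtain ⟨b, hb, c, hc, hc1, hbc⟩ := x.2
    obtain ⟨G, rfl⟩ := mem_adjoin_iff_aeval.1 hb
    have hG := eval_eq_zero hr ha (G := G) (by rw [← hbc, map_mul, hc1, mul_one]; exact hx)
    obtain ⟨cu, hcu⟩ := hunit ⟨c, hAR c hc⟩ hc1
    have : x = ev G * ↑cu⁻¹ := by
      rw [Units.eq_mul_inv_iff_mul_eq, hcu]
      exact Subtype.ext hbc
    rw [this]
    exact I.mul_mem_right _ (hI G hG)
  let L : (Fin n → k) → R := fun c => ∑ j, algebraMap k R (c j) * l j
  set τ := L lam
  have hrel : ∀ c ∈ relSpan r a, L c ∈ I • I := by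
    intro c hc
    induction hc using Submodule.span_induction with
    | mem g hg =>
      obtain ⟨G, hG, rfl⟩ := hg
      obtain ⟨H, hH, hG'⟩ := expansion a G
      have h0 : eval a G = 0 := eval_eq_zero hr ha (by rw [hG, map_zero]; exact zero_lt_one)
      have e : L (grad a G) = -∑ j, l j * ev (H j) := by
        apply Subtype.ext
        have h := congrArg (aeval r) hG'
        rw [hG, h0] at h
        simp only [map_add, map_sum, map_mul, map_sub, aeval_C, aeval_X, map_zero, zero_add] at h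
        simp only [L, AddSubmonoidClass.coe_finsetSum, NegMemClass.coe_neg, MulMemClass.coe_mul]
        exact eq_neg_of_add_eq_zero_left h.symm
      rw [e]
      exact neg_mem (sum_mem fun j _ => Submodule.smul_mem_smul (Ideal.subset_span ⟨j, rfl⟩) (hI _ (hH j)))
    | zero => simp [L]
    | add b c _ _ hb hc =>
      have : L (b + c) = L b + L c := by simp [L, add_mul, Finset.sum_add_distrib]
      rw [this]; exact add_mem hb hc
    | smul t b _ hb =>
      have : L (t • b) = algebraMap k R t * L b := by simp [L, Finset.mul_sum, mul_assoc]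
      rw [this]; exact Ideal.mul_mem_left _ _ hb
  have hspan : I ≤ Ideal.span {τ} ⊔ I • I := by
    refine Ideal.span_le.2 (Set.range_subset_iff.2 fun j => ?_)
    have hj : (Pi.single j 1 : Fin n → k) ∈ relSpan r a ⊔ Submodule.span k {lam} := hlam ▸ Submodule.mem_top
    obtain ⟨c, hc, d, hd, hcd⟩ := Submodule.mem_sup.1 hj
    obtain ⟨t, rfl⟩ := Submodule.mem_span_singleton.1 hd
    have e : l j = algebraMap k R t * τ + L c := by
      have h1 : L (Pi.single j 1) = l j := by simp [L, Pi.single_apply, apply_ite (algebraMap k R), ite_mul]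
      rw [← h1, ← hcd]
      simp [L, τ, add_mul, Finset.sum_add_distrib, Finset.mul_sum, mul_assoc, add_comm]
    rw [e]
    exact Submodule.add_mem_sup (Ideal.mul_mem_left _ _ (Ideal.mem_span_singleton_self τ)) (hrel c hc)
  have hlt : ∀ x ∈ I, P.1 ((x : R) : K) < 1 := by
    intro x hx
    induction hx using Submodule.span_induction with
    | mem y hy => obtain ⟨j, rfl⟩ := hy; exact ha j
    | zero => simp
    | add b c _ _ hb hc => exact Valuation.map_add_lt _ hb hc
    | smul t b _ hb =>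
      rw [smul_eq_mul, MulMemClass.coe_mul, map_mul]
      exact (mul_le_mul' (hRint t) le_rfl).trans_lt (by rw [one_mul]; exact hb)
  have hjac : I ≤ Ideal.jacobson ⊥ := by
    intro x hx
    rw [Ideal.mem_jacobson_bot]
    intro y
    refine hunit _ ?_
    have h1 : P.1 ((x : K) * (y : K)) < 1 := by
      rw [map_mul]; exact (mul_le_mul' le_rfl (hRint y)).trans_lt (by rw [mul_one]; exact hlt x hx)
    show P.1 ((x : K) * (y : K) + 1) = 1
    rw [Valuation.map_add_eq_of_lt_right _ (by rwa [map_one]), map_one]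
  have hIτ : I ≤ Ideal.span {τ} :=
    Submodule.le_of_le_smul_of_le_jacobson_bot (Submodule.fg_span (Set.finite_range l)) hjac hspan
  have hdiv : ∀ x : R, P.1 (x : K) < 1 → ∃ y : R, x = τ * y := fun x hx => by
    obtain ⟨y, hy⟩ := Ideal.mem_span_singleton'.1 (hIτ (hmax x hx))
    exact ⟨y, by rw [← hy, mul_comm]⟩
  have hτI : τ ∈ I := sum_mem fun j _ => I.mul_mem_left _ (Ideal.subset_span ⟨j, rfl⟩)
  have hτ0 : (τ : K) ≠ 0 := by
    intro h0
    obtain ⟨e, he0, he⟩ := exists_exp (P := P) (-1)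
    obtain ⟨u, hu, w, hw, hw0, huw⟩ := exists_frac r hgen e
    have hv : ∀ x ∈ A, x ≠ 0 → P.1 x = 1 := fun x hx hx0 => by
      refine le_antisymm (int_adjoin r P hr hx) (not_lt.1 fun h => ?_)
      obtain ⟨y, hy⟩ := hdiv ⟨x, hAR x hx⟩ h
      exact hx0 ((congrArg Subtype.val hy).trans (by rw [MulMemClass.coe_mul, h0, zero_mul]))
    have h1 := congrArg P.1 huw
    rw [map_mul, he, hv w hw hw0, hv u hu (huw ▸ mul_ne_zero he0 hw0), mul_one, ← exp_zero, exp_inj] at h1
    omega
  have hτv : 0 < P.ord (τ : K) := (v_lt_one_iff P hτ0).1 (hlt τ hτI)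
  have hfac : ∀ (m : ℕ) (x : R), (x : K) ≠ 0 → P.ord (x : K) ≤ m → ∃ (N : ℕ) (u : R), P.1 (u : K) = 1 ∧ x = τ ^ N * u := by
    intro m
    induction m with
    | zero =>
      intro x hx hm
      have h0 := (v_le_one_iff P hx).1 (hRint x)
      exact ⟨0, x, by rw [v_eq_exp P hx, show P.ord (x : K) = 0 by omega]; simp, by simp⟩
    | succ m ih =>
      intro x hx hm
      rcases (hRint x).lt_or_eq with hlt' | heq
      · obtain ⟨y, rfl⟩ := hdiv x hlt'
        rw [MulMemClass.coe_mul] at hx hm
        have hy := right_ne_zero_of_mul hx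
        rw [ord_mul P hτ0 hy] at hm
        obtain ⟨N, u, hu, rfl⟩ := ih y hy (by push_cast at hm; omega)
        exact ⟨N + 1, u, hu, by rw [pow_succ']; ring⟩
      · exact ⟨0, x, heq, by simp⟩
  rcases eq_or_ne z 0 with rfl | hz0
  · exact zero_mem R
  obtain ⟨u, hu, w, hw, hw0, huw⟩ := exists_frac r hgen z
  have hu0 : u ≠ 0 := huw ▸ mul_ne_zero hz0 hw0
  obtain ⟨N, u1, hu1, hue⟩ := hfac _ ⟨u, hAR u hu⟩ hu0 (Int.self_le_toNat _)
  obtain ⟨M, w1, hw1, hwe⟩ := hfac _ ⟨w, hAR w hw⟩ hw0 (Int.self_le_toNat _)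
  have hue' : u = (τ : K) ^ N * u1 := congrArg Subtype.val hue
  have hwe' : w = (τ : K) ^ M * w1 := congrArg Subtype.val hwe
  obtain ⟨wu, hwu⟩ := hunit w1 hw1
  have hMN : M ≤ N := by
    have h := congrArg P.1 huw
    rw [map_mul, hue', hwe', map_mul, map_mul, map_pow, map_pow, hu1, hw1, mul_one, mul_one] at h
    by_contra hlt'
    have h2 : P.1 (τ : K) ^ M < P.1 (τ : K) ^ N :=
      pow_lt_pow_right_of_lt_one₀ (zero_lt_iff.2 (v_ne_zero P hτ0)) (hlt τ hτI) (not_le.1 hlt')
    exact absurd ((mul_le_mul' hz le_rfl).trans_eq (one_mul _)) (not_le.2 (h ▸ h2))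
  have : z = ((τ ^ (N - M) * u1 * ↑wu⁻¹ : R) : K) := by
    have h1 : (w1 : K) * ((↑wu⁻¹ : R) : K) = 1 := by
      rw [← hwu, ← MulMemClass.coe_mul, Units.mul_inv]; rfl
    apply mul_right_cancel₀ hw0
    rw [huw, hue', hwe', MulMemClass.coe_mul, MulMemClass.coe_mul, SubmonoidClass.coe_pow]
    conv_lhs => rw [← Nat.sub_add_cancel hMN, pow_add]
    linear_combination (-((τ : K) ^ (N - M) * (τ : K) ^ M * (u1 : K))) * h1
  rw [this]
  exact (τ ^ (N - M) * u1 * ↑wu⁻¹ : R).2

/-- at a nonsingular point the gradients are the forms vanishing to order two -/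
theorem finrank_rel_of_ns (hr : ∀ j, P.1 (r j) ≤ 1) (ha : ∀ j, P.1 (r j - algebraMap k K (a j)) < 1)
    (hunif : ∃ c : Fin n → k, P.1 (∑ j, algebraMap k K (c j) * (r j - algebraMap k K (a j))) = exp (-1))
    (hns : ∀ z : K, P.1 z ≤ 1 → InLoc (Algebra.adjoin k (Set.range r)) P z) :
    Module.finrank k (relSpan r a) = n - 1 ∧
      ∀ c : Fin n → k, P.1 (∑ j, algebraMap k K (c j) * (r j - algebraMap k K (a j))) ≤ exp (-2) → c ∈ relSpan r a := by
  classical
  obtain ⟨c1, hc1⟩ := hunif
  set L : (Fin n → k) → K := fun c => ∑ j, algebraMap k K (c j) * (r j - algebraMap k K (a j)) with hL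
  set t := L c1
  have ht : P.1 t = exp (-1) := hc1
  have ht0 : t ≠ 0 := fun h => by rw [h, map_zero] at ht; exact exp_ne_zero ht.symm
  let Lp : (Fin n → k) → MvPolynomial (Fin n) k := fun c => ∑ j, C (c j) * (X j - C (a j))
  have hLp : ∀ c, aeval r (Lp c) = L c := fun c => by simp [Lp, L]
  have hLe : ∀ c, eval a (Lp c) = 0 := fun c => by simp [Lp]
  have hLg : ∀ c, grad a (Lp c) = c := fun c => funext fun i => by
    simp [Lp, grad, pderiv_X, Pi.single_apply, apply_ite (eval a)]
  have hmem : ∀ c, P.1 (L c) ≤ exp (-2) → c ∈ relSpan r a := by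
    intro c hc
    have hq : P.1 (L c / t ^ 2) ≤ 1 := by
      rw [map_div₀, map_pow, ht, ← exp_nsmul]
      refine (div_le_one₀ (zero_lt_iff.2 exp_ne_zero)).2 (hc.trans (exp_le_exp.2 ?_))
      norm_num
    obtain ⟨u, hu, b, hb, hb1, he⟩ := hns _ hq
    obtain ⟨U, rfl⟩ := mem_adjoin_iff_aeval.1 hu
    obtain ⟨B, rfl⟩ := mem_adjoin_iff_aeval.1 hb
    have hG : aeval r (Lp c * B - Lp c1 * (Lp c1 * U)) = 0 := by
      rw [map_sub, map_mul, map_mul, map_mul, hLp, hLp, ← he]
      field_simp
      ring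
    have hB : eval a B ≠ 0 := fun h0 => by
      have h := aeval_residue hr ha B
      rw [h0, map_zero, sub_zero, hb1] at h
      exact lt_irrefl _ h
    have hg : grad a (Lp c * B - Lp c1 * (Lp c1 * U)) = eval a B • c := funext fun i => by
      have h1 := congrFun (hLg c) i
      rw [grad] at h1
      simp only [grad, map_sub, pderiv_mul, map_add, map_mul, hLe, zero_mul, mul_zero, add_zero, sub_zero, h1,
        Pi.smul_apply, smul_eq_mul]
      ring
    have : eval a B • c ∈ relSpan r a := Submodule.subset_span ⟨_, hG, hg.symm⟩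
    rwa [Submodule.smul_mem_iff _ hB] at this
  refine ⟨?_, hmem⟩
  have hnot : c1 ∉ relSpan r a := fun h => by
    have := lin_le_two hr ha h
    change P.1 t ≤ exp (-2) at this
    rw [ht, exp_le_exp] at this
    omega
  have hsup : relSpan r a ⊔ Submodule.span k {c1} = ⊤ := by
    refine eq_top_iff.2 fun c _ => ?_
    have hLc : P.1 (L c / t) ≤ 1 := by
      rw [map_div₀, ht]
      refine (div_le_one₀ (zero_lt_iff.2 exp_ne_zero)).2 (Valuation.map_sum_le _ fun j _ => ?_)
      rw [map_mul]
      exact (mul_le_mul' (P.2.1 _) ((lt_one_iff_le _).1 (ha j))).trans_eq (one_mul _)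
    obtain ⟨s, hs⟩ := exists_res hK P hLc
    have h2 : c - s • c1 ∈ relSpan r a := hmem _ (by
      have e : L (c - s • c1) = (L c / t - algebraMap k K s) * t := by
        rw [sub_mul, div_mul_cancel₀ _ ht0]
        simp [L, t, Finset.mul_sum, sub_mul, mul_assoc]
      rw [e, map_mul, ht]
      refine (mul_le_mul' ((lt_one_iff_le _).1 hs) le_rfl).trans ?_
      rw [← exp_add, exp_le_exp]; norm_num)
    exact Submodule.mem_sup.2 ⟨_, h2, s • c1, Submodule.smul_mem _ _ (Submodule.mem_span_singleton_self c1), by abel⟩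
  have h1 := Submodule.finrank_sup_add_finrank_inf_eq (relSpan r a) (Submodule.span k {c1})
  have hinf : relSpan r a ⊓ Submodule.span k {c1} = ⊥ := by
    rw [eq_bot_iff]
    rintro x ⟨hx, hx'⟩
    obtain ⟨s, rfl⟩ := Submodule.mem_span_singleton.1 hx'
    rcases eq_or_ne s 0 with rfl | hs
    · simp
    · exact absurd ((Submodule.smul_mem_iff _ hs).1 hx) hnot
  have hc10 : c1 ≠ 0 := fun h => hnot (h ▸ zero_mem _)
  rw [hsup, hinf, finrank_top, finrank_bot, finrank_span_singleton hc10, Module.finrank_fin_fun] at h1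
  omega

end Groth.Agent.FunFldLib.Proj
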