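import Groth.Agent.FunFldLib.Plane.Model
import Groth.Agent.FunFldLib.Hasse.Exists
import Mathlib.FieldTheory.PrimitiveElement
import Mathlib.FieldTheory.IntermediateField.Adjoin.Algebra

/-! Local rings of a finitely generated coordinate ring. -/

set_option autoImplicit false

open WithZero Polynomial
open LocRes (hasseD IsHasseFamily)

namespace Groth.Agent.FunFldLib.Proj

open FunFld Groth.Agent.FunFldLib Groth.Agent.FunFldLib.Fibre

variable {k K : Type*} [Field k] [Field K] [Algebra k K]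

/-- `z` is a quotient from `A` with denominator a unit at `P` -/
def InLoc (A : Subalgebra k K) (P : Place k K) (z : K) : Prop :=
  ∃ a ∈ A, ∃ b ∈ A, P.1 b = 1 ∧ z * b = a

theorem inLoc_of_mem {A : Subalgebra k K} {P : Place k K} {z : K} (h : z ∈ A) : InLoc A P z :=
  ⟨z, h, 1, one_mem A, map_one _, mul_one z⟩

/-- the local ring as a subalgebra -/
def locAlg (A : Subalgebra k K) (P : Place k K) : Subalgebra k K where
  carrier := {t | InLoc A P t}
  mul_mem' := by
    rintro t t' ⟨a, ha, b, hb, hb1, hab⟩ ⟨a', ha', b', hb', hb1', hab'⟩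
    exact ⟨a * a', mul_mem ha ha', b * b', mul_mem hb hb', by rw [map_mul, hb1, hb1', one_mul],
      by rw [← hab, ← hab']; ring⟩
  add_mem' := by
    rintro t t' ⟨a, ha, b, hb, hb1, hab⟩ ⟨a', ha', b', hb', hb1', hab'⟩
    exact ⟨a * b' + a' * b, add_mem (mul_mem ha hb') (mul_mem ha' hb), b * b', mul_mem hb hb',
      by rw [map_mul, hb1, hb1', one_mul], by rw [← hab, ← hab']; ring⟩
  algebraMap_mem' := fun c => inLoc_of_mem (Subalgebra.algebraMap_mem A c)

theorem int_adjoin {ι : Type*} (g : ι → K) (Q : Place k K) (h : ∀ i, Q.1 (g i) ≤ 1) {a : K}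
    (ha : a ∈ Algebra.adjoin k (Set.range g)) : Q.1 a ≤ 1 := by
  induction ha using Algebra.adjoin_induction with
  | mem x hx => obtain ⟨i, rfl⟩ := hx; exact h i
  | algebraMap c => exact Q.2.1 c
  | add a b _ _ ha hb => exact (Q.1.map_add _ _).trans (max_le ha hb)
  | mul a b _ _ ha hb => rw [map_mul]; exact mul_le_one' ha hb

theorem exists_frac {ι : Type*} (g : ι → K) (hg : IntermediateField.adjoin k (Set.range g) = ⊤) (z : K) :
    ∃ a ∈ Algebra.adjoin k (Set.range g), ∃ b ∈ Algebra.adjoin k (Set.range g), b ≠ 0 ∧ z * b = a := by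
  obtain ⟨r, s, h⟩ := (IntermediateField.mem_adjoin_iff k z).1 (hg ▸ IntermediateField.mem_top : z ∈ IntermediateField.adjoin k (Set.range g))
  have hr : ∀ p : MvPolynomial (Set.range g) k, MvPolynomial.aeval Subtype.val p ∈ Algebra.adjoin k (Set.range g) :=
    fun p => by rw [Algebra.adjoin_eq_range]; exact ⟨p, rfl⟩
  rcases eq_or_ne (MvPolynomial.aeval Subtype.val s : K) 0 with h0 | h0
  · exact ⟨0, zero_mem _, 1, one_mem _, one_ne_zero, by rw [h, h0, div_zero, zero_mul]⟩
  · exact ⟨_, hr r, _, hr s, h0, by rw [h, div_mul_cancel₀ _ h0]⟩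

/-- a vector outside finitely many proper subspaces -/
theorem exists_avoid [Infinite k] {V : Submodule k K} {α : Type*} (s : Finset α) (W : α → Submodule k K)
    (h : ∀ a ∈ s, ∃ x ∈ V, x ∉ W a) : ∃ x ∈ V, ∀ a ∈ s, x ∉ W a := by
  classical
  induction s using Finset.induction_on with
  | empty => exact ⟨0, zero_mem _, by simp⟩
  | insert a s ha ih =>
    obtain ⟨x, hx, hxs⟩ := ih fun b hb => h b (Finset.mem_insert_of_mem hb)
    obtain ⟨y, hy, hya⟩ := h a (Finset.mem_insert_self a s)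
    have hfin : {c : k | ∃ b ∈ insert a s, x + c • y ∈ W b}.Finite := by
      have : {c : k | ∃ b ∈ insert a s, x + c • y ∈ W b} = ⋃ b ∈ insert a s, {c : k | x + c • y ∈ W b} := by
        ext c; simp
      rw [this]
      refine Set.Finite.biUnion (insert a s).finite_toSet fun b hb => Set.Subsingleton.finite fun c hc c' hc' => ?_
      by_contra hne
      have h1 := sub_mem (show x + c • y ∈ W b from hc) hc'
      rw [add_sub_add_left_eq_sub, ← sub_smul, Submodule.smul_mem_iff _ (sub_ne_zero.2 hne)] at h1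
      have h2 := sub_mem (show x + c • y ∈ W b from hc) (Submodule.smul_mem _ c h1)
      rw [add_sub_cancel_right] at h2
      rcases Finset.mem_insert.1 hb with rfl | hbs
      · exact hya h1
      · exact hxs b hbs h2
    obtain ⟨c, hc⟩ := hfin.exists_notMem
    exact ⟨x + c • y, add_mem hx (Submodule.smul_mem _ c hy), fun b hb hmem => hc ⟨b, hb, hmem⟩⟩

variable [IsAlgClosed k] (hK : IsFunctionField k K) {ι : Type*} [Fintype ι] (g : ι → K)
  (hg : IntermediateField.adjoin k (Set.range g) = ⊤) {s : K} {H : K →ₐ[k] PowerSeries K} (hH : IsHasseFamily s H)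

include hK hg hH

/-- a separating combination with poles wherever a generator has one -/
theorem exists_x : ∃ x ∈ Algebra.adjoin k (Set.range g), hasseD H 1 x ≠ 0 ∧
    ∀ Q : Place k K, Q.1 x ≤ 1 → ∀ i, Q.1 (g i) ≤ 1 := by
  classical
  have hS : {Q : Place k K | ∃ i, ¬ Q.1 (g i) ≤ 1}.Finite := by
    refine ((Set.finite_iUnion fun i => finite_ord_support hK.1 (g i))).subset fun Q hQ => ?_
    obtain ⟨i, hi⟩ := hQ
    refine Set.mem_iUnion.2 ⟨i, fun h => hi ?_⟩
    rcases eq_or_ne (g i) 0 with h0 | h0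
    · simp [h0]
    · exact (v_le_one_iff Q h0).2 (le_of_eq (show (0 : ℤ) = Q.ord (g i) from h.symm))
  let δ := Hasse.deriv hH
  let Wδ : Submodule k K := LinearMap.ker δ.toLinearMap
  let WQ : Place k K → Submodule k K := fun Q =>
    { carrier := {z | Q.1 z ≤ 1}
      add_mem' := fun ha hb => (Q.1.map_add _ _).trans (max_le ha hb)
      zero_mem' := by simp
      smul_mem' := fun c z hz => (smul_le Q c z).trans hz }
  obtain ⟨i₀, hi₀⟩ : ∃ i, δ (g i) ≠ 0 := by
    by_contra hall
    push Not at hall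
    let Z : IntermediateField k K :=
      { carrier := {z | δ z = 0}
        mul_mem' := fun {a b} (ha : δ a = 0) (hb : δ b = 0) => show δ (a * b) = 0 by simp [ha, hb]
        one_mem' := δ.map_one_eq_zero
        add_mem' := fun {a b} (ha : δ a = 0) (hb : δ b = 0) => show δ (a + b) = 0 by simp [ha, hb]
        zero_mem' := map_zero δ
        algebraMap_mem' := fun c => δ.map_algebraMap c
        inv_mem' := fun a (ha : δ a = 0) => show δ a⁻¹ = 0 by rw [δ.leibniz_inv, ha, smul_zero] }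
    have hle : IntermediateField.adjoin k (Set.range g) ≤ Z :=
      IntermediateField.adjoin_le_iff.2 (Set.range_subset_iff.2 hall)
    have : δ s = 0 := hle (hg ▸ IntermediateField.mem_top)
    rw [Hasse.deriv_apply, LocRes.hasseD_apply, hH.1] at this
    simp at this
  obtain ⟨x, hxV, hx⟩ := exists_avoid (V := Submodule.span k (Set.range g))
    (insert none (hS.toFinset.image some)) (fun o => o.elim Wδ WQ) (by
      intro o ho
      rcases Finset.mem_insert.1 ho with rfl | ho
      · exact ⟨g i₀, Submodule.subset_span ⟨i₀, rfl⟩, hi₀⟩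
      · obtain ⟨Q, hQ, rfl⟩ := Finset.mem_image.1 ho
        obtain ⟨i, hi⟩ := hS.mem_toFinset.1 hQ
        exact ⟨g i, Submodule.subset_span ⟨i, rfl⟩, hi⟩)
  refine ⟨x, Algebra.span_le_adjoin k _ hxV, hx none (Finset.mem_insert_self _ _), fun Q hQ i => ?_⟩
  by_contra hcon
  exact hx (some Q) (Finset.mem_insert_of_mem (Finset.mem_image_of_mem _ (hS.mem_toFinset.2 ⟨i, hcon⟩))) hQ

omit hg in
theorem transcendental_of_deriv {x : K} (hx : hasseD H 1 x ≠ 0) : Transcendental k x :=
  transcendental_of_not_mem hK (by rintro ⟨c, rfl⟩; exact hx (by rw [Hasse.hD_algebraMap, if_neg one_ne_zero]))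

/-- a uniformizer and separation of points give the whole valuation ring -/
theorem crit (P : Place k K) (hP : ∀ i, P.1 (g i) ≤ 1)
    (hunif : ∃ t, InLoc (Algebra.adjoin k (Set.range g)) P t ∧ P.1 t = exp (-1))
    (hsep : ∀ Q : Place k K, (∀ z, InLoc (Algebra.adjoin k (Set.range g)) P z → Q.1 z ≤ 1) → Q = P)
    (z : K) (hz : P.1 z ≤ 1) : InLoc (Algebra.adjoin k (Set.range g)) P z := by
  classical
  set A := Algebra.adjoin k (Set.range g)
  obtain ⟨x, hxA, hδx, hxpole⟩ := exists_x hK g hg hH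
  obtain ⟨c0, hc0⟩ := exists_res hK P (int_adjoin g P hP hxA)
  set ξ := x - algebraMap k K c0 with hξdef
  have hξA : ξ ∈ A := sub_mem hxA (Subalgebra.algebraMap_mem A c0)
  have hδξ : hasseD H 1 ξ ≠ 0 := by rwa [hξdef, Hasse.hD_sub, Hasse.hD_algebraMap, if_neg one_ne_zero, sub_zero]
  have hξtr := transcendental_of_deriv hK hH hδξ
  have hξ0 : ξ ≠ 0 := fun h => hξtr (h ▸ isAlgebraic_zero)
  have hPξ : 0 < P.ord ξ := (v_lt_one_iff P hξ0).1 hc0
  have hint : ∀ Q : Place k K, 0 < Q.ord ξ → ∀ i, Q.1 (g i) ≤ 1 := fun Q hQ => hxpole Q (by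
    rw [show x = ξ + algebraMap k K c0 by rw [hξdef]; ring]
    exact (Q.1.map_add _ _).trans (max_le (v_w_lt hQ).le (Q.2.1 c0)))
  obtain ⟨S, hS, -⟩ := sum_ord hK hξtr
  obtain ⟨y, -, n, -, hn0, hyi, -, -, hcoords, -, -⟩ := exists_local hK hξtr hH hδξ
  obtain ⟨u, hu, w, hw, hw0, huw⟩ := exists_frac g hg y
  have hloc : ∀ a ∈ IntermediateField.adjoin k ({ξ} : Set K), Int k ξ a → a ∈ locAlg A P := by
    intro a ha hai
    obtain ⟨N, q, hq, rfl⟩ := int_form hξtr ⟨P, hPξ⟩ ha hai
    have hmem : ∀ p : k[X], aeval ξ p ∈ A := fun p =>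
      Algebra.adjoin_le (Set.singleton_subset_iff.2 hξA) (aeval_mem_adjoin_singleton k ξ)
    refine ⟨_, hmem N, _, hmem q, v_unit hq hPξ, ?_⟩
    exact div_mul_cancel₀ _ (Fibre.aeval_ne_zero hξtr (fun h => hq (by rw [h, eval_zero])))
  set c := w ^ n with hcdef
  have hc0' : c ≠ 0 := pow_ne_zero _ hw0
  have hcond : ∀ r, Int k ξ r → c * r ∈ locAlg A P := by
    intro r hr
    obtain ⟨a, hai, rfl⟩ := hcoords r hr
    rw [Finset.mul_sum]
    refine sum_mem fun i _ => ?_
    rw [show c * ((a i : K) * y ^ (i : ℕ)) = (a i : K) * ((y * w) ^ (i : ℕ) * w ^ (n - (i : ℕ))) by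
      rw [hcdef, mul_pow, mul_assoc (y ^ (i : ℕ)), ← pow_add, Nat.add_sub_cancel' i.2.le]; ring]
    exact mul_mem (hloc _ (a i).2 (hai i)) (inLoc_of_mem (mul_mem (pow_mem (huw ▸ hu) _) (pow_mem hw _)))
  -- successive approximation
  obtain ⟨t, htloc, htv⟩ := hunif
  have ht0 : t ≠ 0 := fun h => by rw [h, map_zero] at htv; exact exp_ne_zero htv.symm
  have happrox : ∀ N : ℕ, ∃ p ∈ locAlg A P, P.1 (z - p) ≤ exp (-(N : ℤ)) := by
    intro N
    induction N with
    | zero => exact ⟨0, zero_mem _, by simpa using hz⟩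
    | succ N ih =>
      obtain ⟨p, hp, hpv⟩ := ih
      have hr : P.1 ((z - p) / t ^ N) ≤ 1 := by
        rw [map_div₀, map_pow, htv, ← exp_nsmul]
        refine (div_le_one₀ (zero_lt_iff.2 exp_ne_zero)).2 (hpv.trans (exp_le_exp.2 ?_))
        simp
      obtain ⟨a, ha⟩ := exists_res hK P hr
      refine ⟨p + algebraMap k K a * t ^ N,
        add_mem hp (mul_mem ((locAlg A P).algebraMap_mem a) ((locAlg A P).pow_mem htloc N)), ?_⟩
      rw [show z - (p + algebraMap k K a * t ^ N) = ((z - p) / t ^ N - algebraMap k K a) * t ^ N by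
        rw [sub_mul, div_mul_cancel₀ _ (pow_ne_zero _ ht0)]; ring, map_mul, map_pow, htv, ← exp_nsmul]
      refine (mul_le_mul' ((lt_one_iff_le _).1 ha) le_rfl).trans ?_
      rw [← exp_add, exp_le_exp]
      simp
  obtain ⟨p, hp, hpv⟩ := happrox (P.ord c).toNat
  set r := (z - p) / c with hr
  have hrP : P.1 r ≤ 1 := by
    rw [hr, map_div₀, div_le_one₀ (zero_lt_iff.2 (v_ne_zero P hc0')), v_eq_exp P hc0']
    exact hpv.trans (exp_le_exp.2 (by have := Int.self_le_toNat (P.ord c); omega))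
  -- separate `P` from the rest of the fibre
  have hgQ : ∀ Q ∈ S.erase P, ∃ e ∈ A, P.1 e = 1 ∧ Q.1 e < 1 := by
    intro Q hQ
    obtain ⟨hne, hQS⟩ := Finset.mem_erase.1 hQ
    obtain ⟨v, ⟨a, ha, b, hb, hb1, hab⟩, hv⟩ : ∃ v, InLoc A P v ∧ ¬ Q.1 v ≤ 1 := by
      by_contra hcon
      push Not at hcon
      exact hne (hsep Q hcon)
    refine ⟨b, hb, hb1, ?_⟩
    by_contra hcon
    have h := congrArg Q.1 hab
    rw [map_mul, le_antisymm (int_adjoin g Q (hint Q ((hS Q).1 hQS)) hb) (not_lt.1 hcon), mul_one] at h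
    exact hv (h ▸ int_adjoin g Q (hint Q ((hS Q).1 hQS)) ha)
  choose e heA heP heQ using hgQ
  obtain ⟨M, hM⟩ : ∃ M : ℕ, ∀ Q ∈ S, Q.1 r ≤ exp (M : ℤ) := by
    refine ⟨S.sup fun Q => (-Q.ord r).toNat, fun Q hQ => ?_⟩
    rcases eq_or_ne r 0 with h | h
    · simp [h]
    · rw [v_eq_exp Q h, exp_le_exp]
      have h1 : (-Q.ord r).toNat ≤ S.sup fun Q => (-Q.ord r).toNat := Finset.le_sup (f := fun Q => (-Q.ord r).toNat) hQ
      omega
  set σ := ∏ Q ∈ (S.erase P).attach, e Q.1 Q.2 ^ M with hσ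
  have hσA : σ ∈ A := prod_mem fun Q _ => pow_mem (heA _ _) _
  have hσP : P.1 σ = 1 := by
    rw [hσ, map_prod]
    exact Finset.prod_eq_one fun Q _ => by rw [map_pow, heP, one_pow]
  have hrσ : Int k ξ (r * σ) := by
    intro Q hQ
    have hσQ : Q.1 σ ≤ 1 := int_adjoin g Q (hint Q hQ) hσA
    rcases eq_or_ne Q P with rfl | hne
    · rw [map_mul]; exact mul_le_one' hrP hσQ
    · have hmem : Q ∈ S.erase P := Finset.mem_erase.2 ⟨hne, (hS Q).2 hQ⟩
      rw [map_mul, hσ, ← Finset.mul_prod_erase _ _ (Finset.mem_attach _ ⟨Q, hmem⟩), map_mul, map_pow, ← mul_assoc]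
      refine mul_le_one' ?_ (int_adjoin g Q (hint Q hQ) (prod_mem fun R _ => pow_mem (heA _ _) _))
      refine (mul_le_mul' (hM Q ((hS Q).2 hQ)) (pow_le_pow_left' ((lt_one_iff_le _).1 (heQ Q hmem)) M)).trans ?_
      rw [← exp_nsmul, ← exp_add, ← exp_zero, exp_le_exp]
      simp
  have hzσ : z * σ ∈ locAlg A P := by
    rw [show z * σ = p * σ + c * (r * σ) by rw [← mul_assoc, hr, mul_div_cancel₀ _ hc0']; ring]
    exact add_mem (mul_mem hp (inLoc_of_mem hσA)) (hcond _ hrσ)
  obtain ⟨a, ha, b, hb, hb1, hab⟩ := hzσ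
  exact ⟨a, ha, σ * b, mul_mem hσA hb, by rw [map_mul, hσP, hb1, one_mul], by rw [← hab]; ring⟩

/-- all but finitely many points are nonsingular -/
theorem finite_singular :
    {P : Place k K | (∀ i, P.1 (g i) ≤ 1) ∧
      ∃ z : K, P.1 z ≤ 1 ∧ ¬ InLoc (Algebra.adjoin k (Set.range g)) P z}.Finite := by
  classical
  set A := Algebra.adjoin k (Set.range g)
  obtain ⟨x, hxA, hδx, hxpole⟩ := exists_x hK g hg hH
  have hxtr := transcendental_of_deriv hK hH hδx
  have := finite_over hK.1 hxtr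
  have hsepx : Algebra.IsSeparable (IntermediateField.adjoin k ({x} : Set K)) K := by
    obtain ⟨-, -, -, -, -, -, -, h, -⟩ := exists_local hK hxtr hH hδx
    exact h
  obtain ⟨θ0, hθ0⟩ := Field.exists_primitive_element (IntermediateField.adjoin k ({x} : Set K)) K
  -- clear the denominator of a primitive element
  obtain ⟨u, hu, w, hw, hw0, huw⟩ := exists_frac g hg θ0
  obtain ⟨θ, hθA, a0, ha0, ha0F, hθ⟩ : ∃ θ ∈ A, ∃ a0 : K, a0 ≠ 0 ∧
      a0 ∈ IntermediateField.adjoin k ({x} : Set K) ∧ θ = a0 * θ0 := by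
    have hregA : ∀ P : Place k K, P.1 x ≤ 1 → P.1 w ≤ 1 := fun P h => int_adjoin g P (hxpole P h) hw
    have hwi := isIntegral_of_regular (u := x) hK hregA
    set p := minpoly (Algebra.adjoin k ({x} : Set K)) w with hp
    have hpw : aeval w p = 0 := minpoly.aeval _ _
    have hcoef : p.coeff 0 ≠ 0 := fun h => hw0 (by
      obtain ⟨q, hq⟩ := X_dvd_iff.2 h
      have hirr := minpoly.irreducible hwi
      rw [← hp, hq] at hirr
      rcases hirr.isUnit_or_isUnit rfl with h1 | h1
      · exact absurd h1 not_isUnit_X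
      · have : aeval w p = w * aeval w q := by rw [hq, map_mul, aeval_X]
        rw [hpw, eq_comm, mul_eq_zero] at this
        exact this.resolve_right fun h2 => by
          have := h1.map (aeval w)
          rw [h2] at this
          exact not_isUnit_zero this)
    have hsub : ∀ q : (Algebra.adjoin k ({x} : Set K))[X], aeval w q ∈ A := by
      intro q
      rw [aeval_eq_sum_range]
      refine sum_mem fun i _ => ?_
      exact mul_mem (Algebra.adjoin_le (Set.singleton_subset_iff.2 hxA) (q.coeff i).2) (pow_mem hw i)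
    refine ⟨-(u * aeval w p.divX), neg_mem (mul_mem hu (hsub _)), (p.coeff 0 : K), by simpa using hcoef,
      IntermediateField.algebra_adjoin_le_adjoin _ _ (p.coeff 0).2, ?_⟩
    have h : w * aeval w p.divX + (p.coeff 0 : K) = 0 := by
      have := congrArg (aeval w) (X_mul_divX_add p)
      rw [hpw, map_add, map_mul, aeval_X, aeval_C] at this
      exact this
    rw [← huw]
    linear_combination (-θ0) * h
  have hgen : IntermediateField.adjoin k ({x, θ} : Set K) = ⊤ := by
    set E := IntermediateField.adjoin k ({x, θ} : Set K)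
    have hθ0E : θ0 ∈ E := by
      have h1 : a0 ∈ E := IntermediateField.adjoin.mono k _ _ (by simp) ha0F
      have h2 : θ ∈ E := IntermediateField.subset_adjoin k _ (by simp)
      have := mul_mem h2 (inv_mem h1)
      rwa [hθ, mul_comm a0, mul_assoc, mul_inv_cancel₀ ha0, mul_one] at this
    have h := congrArg (IntermediateField.restrictScalars k) hθ0
    rw [IntermediateField.adjoin_adjoin_left, IntermediateField.restrictScalars_top, Set.singleton_union] at h
    rw [eq_top_iff, ← h, IntermediateField.adjoin_le_iff]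
    rintro z (rfl | rfl)
    · exact IntermediateField.subset_adjoin k _ (by simp)
    · exact hθ0E
  have hregθ : ∀ P : Place k K, P.1 x ≤ 1 → P.1 θ ≤ 1 := fun P h => int_adjoin g P (hxpole P h) hθA
  obtain ⟨n, hn⟩ : ∃ n, n = degX k x := ⟨_, rfl⟩
  obtain ⟨a, ha⟩ := mem_span_pows hK hxtr hgen hregθ (f := θ ^ degX k x) (pow_mem (Algebra.subset_adjoin (by simp)) _)
  set G := Plane.dRel θ (fun j => aeval x (a j)) with hG
  have hbad : {P : Place k K | (∀ i, P.1 (g i) ≤ 1) ∧ ∃ z : K, P.1 z ≤ 1 ∧ ¬ InLoc A P z} ⊆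
      {P : Place k K | ¬ ∃ c : k, P.1 (s - algebraMap k K c) = exp (-1)} ∪
        (Function.support fun P : Place k K => P.ord G) ∪
        (Function.support fun P : Place k K => P.ord (hasseD H 1 x)) := by
    rintro P ⟨hP, z, hz, hzn⟩
    by_contra hcon
    simp only [Set.mem_union, not_or, Set.mem_setOf_eq, not_not, Function.mem_support] at hcon
    obtain ⟨⟨⟨cs, hcs⟩, hGP⟩, hxP⟩ := hcon
    apply hzn
    obtain ⟨c0, hc0⟩ := exists_res hK P (int_adjoin g P hP hxA)
    set ξ := x - algebraMap k K c0 with hξdef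
    have hξtr : Transcendental k ξ := trans_shift hxtr c0
    have hξ0 : ξ ≠ 0 := fun h => hξtr (h ▸ isAlgebraic_zero)
    have hPξ : 0 < P.ord ξ := (v_lt_one_iff P hξ0).1 hc0
    have hFw : IntermediateField.adjoin k ({ξ} : Set K) = IntermediateField.adjoin k ({x} : Set K) := adjoin_shift x c0
    have hgen' : IntermediateField.adjoin k ({ξ, θ} : Set K) = ⊤ := by
      rw [eq_top_iff, ← hgen, IntermediateField.adjoin_le_iff]
      have h1 : ξ ∈ IntermediateField.adjoin k ({ξ, θ} : Set K) := IntermediateField.subset_adjoin k _ (by simp)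
      rintro t (rfl | rfl)
      · have := add_mem h1 (IntermediateField.algebraMap_mem _ c0)
        rwa [hξdef, sub_add_cancel] at this
      · exact IntermediateField.subset_adjoin k _ (by simp)
    have hxe : ∀ R : Place k K, 0 < R.ord ξ → R.1 x ≤ 1 := fun R hR => by
      rw [show x = ξ + algebraMap k K c0 by rw [hξdef]; ring]
      exact (R.1.map_add _ _).trans (max_le (v_w_lt hR).le (R.2.1 c0))
    have hshift := Hasse.shift hH cs
    have hδξ : hasseD H 1 ξ = hasseD H 1 x := by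
      rw [hξdef, Hasse.hD_sub, Hasse.hD_algebraMap, if_neg one_ne_zero, sub_zero]
    obtain ⟨hG0, -, hiff⟩ := Plane.core hK hξtr hgen' (n := degX k x) (c := fun j => aeval x (a j))
      (by rw [degX, degX, hFw]) (fun j => hFw ▸ Fibre.poly_mem x (a j)) ha
      (fun j R hR => v_aeval_le R (hxe R hR) (a j)) (fun R hR => hregθ R (hxe R hR)) hH (hδξ ▸ hδx) P hPξ hcs hshift
    obtain ⟨aa, haa, bb, hbb, hb1, hab⟩ := hiff.1 (by
      rw [hδξ, ← hG, v_eq_exp P (hG ▸ hG0), v_eq_exp P hδx, hGP, hxP]) z hz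
    have hle : Plane.coordRing k ξ θ ≤ locAlg A P := by
      refine Algebra.adjoin_le ?_
      rintro t (rfl | ⟨ht, hti⟩)
      · exact inLoc_of_mem hθA
      · obtain ⟨N, q, hq, rfl⟩ := int_form hξtr ⟨P, hPξ⟩ ht hti
        have hmem : ∀ p : k[X], aeval ξ p ∈ A := fun p =>
          Algebra.adjoin_le (Set.singleton_subset_iff.2 (sub_mem hxA (Subalgebra.algebraMap_mem A c0)))
            (aeval_mem_adjoin_singleton k ξ)
        exact ⟨_, hmem N, _, hmem q, v_unit hq hPξ,
          div_mul_cancel₀ _ (Fibre.aeval_ne_zero hξtr (fun h => hq (by rw [h, eval_zero])))⟩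
    obtain ⟨a1, ha1, b1, hb1', hv1, he1⟩ := hle haa
    obtain ⟨a2, ha2, b2, hb2', hv2, he2⟩ := hle hbb
    refine ⟨a1 * b2, mul_mem ha1 hb2', a2 * b1, mul_mem ha2 hb1', ?_, ?_⟩
    · rw [← he2, map_mul, map_mul, hb1, hv2, hv1, one_mul, one_mul]
    · rw [← he1, ← he2, ← hab]; ring
  exact (((finite_bad hK hH).union (finite_ord_support hK.1 G)).union (finite_ord_support hK.1 _)).subset hbad

end Groth.Agent.FunFldLib.Proj
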