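import Groth.Agent.FunFldLib.Proj.Local

/-! Nonsingular points of projective maps. -/

set_option autoImplicit false

open WithZero
open LocRes (hasseD IsHasseFamily)

namespace Groth.Agent.FunFldLib.Proj

open FunFld Groth.Agent.FunFldLib

variable {k K : Type*} [Field k] [Field K] [Algebra k K] {ι : Type*}

/-- the affine coordinate ring in the `j`-th chart -/
abbrev chartRing (k : Type*) {K : Type*} [Field k] [Field K] [Algebra k K] {ι : Type*} (φ : ι → K) (j : ι) :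
    Subalgebra k K :=
  Algebra.adjoin k (Set.range fun i => φ i / φ j)

theorem exists_max [Finite ι] (φ : ι → K) (P : Place k K) (h : ∃ i, φ i ≠ 0) :
    ∃ j, φ j ≠ 0 ∧ ∀ i, P.1 (φ i) ≤ P.1 (φ j) := by
  obtain ⟨i, hi⟩ := h
  have : Nonempty ι := ⟨i⟩
  obtain ⟨j, hj⟩ := Finite.exists_max (fun l => P.1 (φ l))
  exact ⟨j, fun h0 => v_ne_zero P hi (le_antisymm (by simpa [h0] using hj i) zero_le), hj⟩

theorem ratio_le {φ : ι → K} {P : Place k K} {j : ι} (hj0 : φ j ≠ 0) (hj : ∀ i, P.1 (φ i) ≤ P.1 (φ j)) (i : ι) :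
    P.1 (φ i / φ j) ≤ 1 := by
  rw [map_div₀, div_le_one₀ (zero_lt_iff.2 (v_ne_zero P hj0))]
  exact hj i

theorem ratio_div {φ : ι → K} {j : ι} (hj0 : φ j ≠ 0) {v : K} (hv : v ∈ Submodule.span k (Set.range φ)) :
    v / φ j ∈ chartRing k φ j := by
  induction hv using Submodule.span_induction with
  | mem x hx => obtain ⟨i, rfl⟩ := hx; exact Algebra.subset_adjoin ⟨i, rfl⟩
  | zero => rw [zero_div]; exact zero_mem _
  | add a b _ _ ha hb => rw [add_div]; exact add_mem ha hb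
  | smul c a _ ha => rw [smul_div_assoc]; exact Subalgebra.smul_mem _ ha c

theorem inLocRing_iff {φ : ι → K} {P : Place k K} {j : ι} (hj0 : φ j ≠ 0) (hj : ∀ i, P.1 (φ i) ≤ P.1 (φ j))
    (z : K) : InLocRing φ P z ↔ InLoc (chartRing k φ j) P z := by
  constructor
  · rintro ⟨l, hl0, hl, u, hu, w, hw, hw1, he⟩
    have hle : chartRing k φ l ≤ locAlg (chartRing k φ j) P := by
      refine Algebra.adjoin_le ?_
      rintro _ ⟨i, rfl⟩
      refine ⟨φ i / φ j, Algebra.subset_adjoin ⟨i, rfl⟩, φ l / φ j, Algebra.subset_adjoin ⟨l, rfl⟩, ?_, ?_⟩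
      · rw [map_div₀, le_antisymm (hj l) (hl j), div_self (v_ne_zero P hj0)]
      · field_simp
    obtain ⟨a1, ha1, b1, hb1, hv1, he1⟩ := hle hu
    obtain ⟨a2, ha2, b2, hb2, hv2, he2⟩ := hle hw
    refine ⟨a1 * b2, mul_mem ha1 hb2, a2 * b1, mul_mem ha2 hb1, ?_, ?_⟩
    · rw [← he2, map_mul, map_mul, hw1, hv2, hv1, one_mul, one_mul]
    · rw [← he1, ← he2, ← he]; ring
  · rintro ⟨a, ha, b, hb, hb1, hab⟩
    exact ⟨j, hj0, hj, a, ha, b, hb, hb1, hab⟩

theorem inLoc_le {φ : ι → K} {P : Place k K} {j : ι} (hj0 : φ j ≠ 0) (hj : ∀ i, P.1 (φ i) ≤ P.1 (φ j))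
    {z : K} (h : InLoc (chartRing k φ j) P z) : P.1 z ≤ 1 := by
  obtain ⟨a, ha, b, -, hb1, hab⟩ := h
  have := congrArg P.1 hab
  rw [map_mul, hb1, mul_one] at this
  exact this ▸ int_adjoin _ P (ratio_le hj0 hj) ha

theorem adjoin_chart {φ : ι → K} {o j : ι} (ho : φ o ≠ 0) (hj0 : φ j ≠ 0)
    (hbir : IntermediateField.adjoin k (Set.range fun i => φ i / φ o) = ⊤) :
    IntermediateField.adjoin k (Set.range fun i => φ i / φ j) = ⊤ := by
  rw [eq_top_iff, ← hbir, IntermediateField.adjoin_le_iff]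
  rintro _ ⟨i, rfl⟩
  have h := div_mem (IntermediateField.subset_adjoin k (Set.range fun i => φ i / φ j) ⟨i, rfl⟩)
    (IntermediateField.subset_adjoin k (Set.range fun i => φ i / φ j) ⟨o, rfl⟩)
  have e : φ i / φ j / (φ o / φ j) = φ i / φ o := by field_simp
  rwa [e] at h

variable [IsAlgClosed k] (hK : IsFunctionField k K)
include hK

theorem adjoin_of_ns {φ : ι → K} {o : ι} (ho : φ o ≠ 0) {P : Place k K} (h : IsNonsingularAt φ P) :
    IntermediateField.adjoin k (Set.range fun i => φ i / φ o) = ⊤ := by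
  set F := IntermediateField.adjoin k (Set.range fun i => φ i / φ o)
  have key : ∀ z : K, P.1 z ≤ 1 → z ∈ F := by
    intro z hz
    obtain ⟨j, hj0, -, u, hu, w, hw, hw1, he⟩ := h z hz
    have hle : ∀ a ∈ Algebra.adjoin k (Set.range fun i => φ i / φ j), a ∈ F := by
      intro a ha
      refine (Algebra.adjoin_le (S := F.toSubalgebra) ?_) ha
      rintro _ ⟨i, rfl⟩
      have hmem : φ i / φ o / (φ j / φ o) ∈ F := div_mem (IntermediateField.subset_adjoin k _ ⟨i, rfl⟩)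
        (IntermediateField.subset_adjoin k _ ⟨j, rfl⟩)
      have e : φ i / φ o / (φ j / φ o) = φ i / φ j := by field_simp
      rw [e] at hmem
      exact hmem
    have hw0 : w ≠ 0 := fun h0 => by rw [h0, map_zero] at hw1; exact zero_ne_one hw1
    rw [eq_div_of_mul_eq hw0 he]
    exact div_mem (hle u hu) (hle w hw)
  refine eq_top_iff.2 fun z _ => ?_
  rcases le_total (P.1 z) 1 with hz | hz
  · exact key z hz
  · have := key z⁻¹ (by rw [map_inv₀]; exact inv_le_one_of_one_le₀ hz)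
    simpa using inv_mem this

theorem ns_iff_crit [Fintype ι] {φ : ι → K} {o : ι} (ho : φ o ≠ 0)
    (hbir : IntermediateField.adjoin k (Set.range fun i => φ i / φ o) = ⊤) (P : Place k K) :
    IsNonsingularAt φ P ↔
      (∀ Q : Place k K, (∀ z : K, InLocRing φ P z → Q.1 z ≤ 1) → Q = P) ∧
        ∃ t : K, InLocRing φ P t ∧ P.1 t = exp (-1) := by
  refine ⟨fun h => ⟨fun Q hQ => ?_, ?_⟩, fun ⟨hsep, t, ht, htv⟩ z hz => ?_⟩
  · exact (ext_of_le (P := P) (Q := Q) fun z hz => hQ z (h z hz)).symm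
  · obtain ⟨t, -, ht⟩ := exists_exp (P := P) (-1)
    exact ⟨t, h t (by rw [ht, ← exp_zero, exp_le_exp]; omega), ht⟩
  · obtain ⟨j, hj0, hj⟩ := exists_max φ P ⟨o, ho⟩
    obtain ⟨s, H, hH⟩ := exists_hasse hK.1
    rw [inLocRing_iff hj0 hj] at ht ⊢
    exact crit hK _ (adjoin_chart ho hj0 hbir) hH P (ratio_le hj0 hj) ⟨t, ht, htv⟩
      (fun Q hQ => hsep Q fun z hz => hQ z ((inLocRing_iff hj0 hj z).1 hz)) z hz

theorem param_iff {φ : ι → K} {P : Place k K} {j : ι} (hj0 : φ j ≠ 0) (hj : ∀ i, P.1 (φ i) ≤ P.1 (φ j)) :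
    (∃ t : K, InLoc (chartRing k φ j) P t ∧ P.1 t = exp (-1)) ↔
      ∃ v ∈ Submodule.span k (Set.range φ), P.1 (v / φ j) = exp (-1) := by
  refine ⟨fun ⟨t, ⟨a, ha, b, hb, hb1, hab⟩, htv⟩ => ?_, fun ⟨v, hv, hvv⟩ =>
    ⟨v / φ j, inLoc_of_mem (ratio_div hj0 hv), hvv⟩⟩
  by_contra hcon
  push Not at hcon
  let S : Subalgebra k K :=
    { carrier := {a | P.1 a ≤ 1 ∧ ∃ c : k, P.1 (a - algebraMap k K c) ≤ exp (-2)}
      mul_mem' := by
        rintro a b ⟨ha, c, hc⟩ ⟨hb, d, hd⟩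
        refine ⟨by rw [map_mul]; exact mul_le_one' ha hb, c * d, ?_⟩
        rw [show a * b - algebraMap k K (c * d) =
          (a - algebraMap k K c) * b + algebraMap k K c * (b - algebraMap k K d) by rw [map_mul]; ring]
        refine (P.1.map_add _ _).trans (max_le ?_ ?_)
        · rw [map_mul]; exact (mul_le_mul' hc hb).trans_eq (mul_one _)
        · rw [map_mul]; exact (mul_le_mul' (P.2.1 c) hd).trans_eq (one_mul _)
      add_mem' := by
        rintro a b ⟨ha, c, hc⟩ ⟨hb, d, hd⟩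
        refine ⟨(P.1.map_add _ _).trans (max_le ha hb), c + d, ?_⟩
        rw [show a + b - algebraMap k K (c + d) = (a - algebraMap k K c) + (b - algebraMap k K d) by
          rw [map_add]; ring]
        exact (P.1.map_add _ _).trans (max_le hc hd)
      algebraMap_mem' := fun c => ⟨P.2.1 c, c, by simp⟩ }
  have hle : chartRing k φ j ≤ S := by
    refine Algebra.adjoin_le ?_
    rintro _ ⟨i, rfl⟩
    obtain ⟨c, hc⟩ := exists_res hK P (ratio_le hj0 hj i)
    refine ⟨ratio_le hj0 hj i, c, ?_⟩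
    have h := hcon (φ i - c • φ j) (sub_mem (Submodule.subset_span ⟨i, rfl⟩) (Submodule.smul_mem _ _ (Submodule.subset_span ⟨j, rfl⟩)))
    rw [Algebra.smul_def, sub_div, mul_div_cancel_right₀ _ hj0] at h
    have h1 := lt_of_le_of_ne ((lt_one_iff_le _).1 hc) h
    rw [lt_exp_iff] at h1
    exact h1
  obtain ⟨-, c, hc⟩ := hle ha
  have hav : P.1 a = exp (-1) := by rw [← hab, map_mul, htv, hb1, mul_one]
  rcases eq_or_ne c 0 with rfl | hc0
  · rw [map_zero, sub_zero, hav, exp_le_exp] at hc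
    omega
  · have hlt : P.1 a < P.1 (algebraMap k K c) := by
      rw [v_algebraMap P hc0, hav, ← exp_zero, exp_lt_exp]; omega
    rw [Valuation.map_sub_swap, Valuation.map_sub_eq_of_lt_left _ hlt, v_algebraMap P hc0, ← exp_zero, exp_le_exp] at hc
    omega

theorem finite_singular_map [Fintype ι] {φ : ι → K} {o : ι} (ho : φ o ≠ 0)
    (hbir : IntermediateField.adjoin k (Set.range fun i => φ i / φ o) = ⊤) :
    {P : Place k K | ¬ IsNonsingularAt φ P}.Finite := by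
  classical
  obtain ⟨s, H, hH⟩ := exists_hasse hK.1
  have hfin : ∀ j, φ j ≠ 0 → {P : Place k K | (∀ i, P.1 (φ i / φ j) ≤ 1) ∧
      ∃ z : K, P.1 z ≤ 1 ∧ ¬ InLoc (chartRing k φ j) P z}.Finite := fun j hj0 =>
    finite_singular hK _ (adjoin_chart ho hj0 hbir) hH
  refine (Set.finite_iUnion fun j : {j // φ j ≠ 0} => hfin j.1 j.2).subset fun P hP => ?_
  obtain ⟨j, hj0, hj⟩ := exists_max φ P ⟨o, ho⟩
  simp only [Set.mem_setOf_eq, IsNonsingularAt, not_forall] at hP
  obtain ⟨z, hz, hzn⟩ := hP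
  exact Set.mem_iUnion.2 ⟨⟨j, hj0⟩, ratio_le hj0 hj, z, hz, fun h => hzn ((inLocRing_iff hj0 hj z).2 h)⟩

end Groth.Agent.FunFldLib.Proj
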