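import Groth.Agent.FunFldLib.Proj.Jacobian
import Groth.Agent.FunFldLib.Plane.Relation
import Mathlib.LinearAlgebra.Matrix.Rank
import Mathlib.RingTheory.MvPolynomial.EulerIdentity

/-! Homogeneous relations of a map and the Jacobian at a place. -/

set_option autoImplicit false

open WithZero

namespace Groth.Agent.FunFldLib.Proj

open FunFld Groth.Agent.FunFldLib MvPolynomial
open Groth.Agent.FunFldLib.Plane (dehom hom dehom_hom hom_isHomogeneous aeval_scale mem_cone_iff)

variable {k K : Type*} [Field k] [IsAlgClosed k] [Field K] [Algebra k K] {n : ℕ}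

theorem pderiv_dehom (g : MvPolynomial (Fin (n + 1)) k) (j : Fin n) :
    pderiv j (dehom g) = dehom (pderiv j.succ g) := by
  classical
  induction g using MvPolynomial.induction_on with
  | C c => simp [dehom]
  | add p q hp hq => simp [hp, hq]
  | mul_X p i hp =>
    have h : pderiv j (dehom (X i : MvPolynomial (Fin (n + 1)) k)) = dehom (pderiv j.succ (X i)) := by
      refine Fin.cases ?_ (fun l => ?_) i
      · simp [dehom, pderiv_X, Pi.single_apply, Fin.succ_ne_zero, (Fin.succ_ne_zero j).symm]
      · rcases eq_or_ne l j with rfl | hne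
        · simp [dehom]
        · simp [dehom, pderiv_X_of_ne hne, pderiv_X_of_ne (fun h => hne (Fin.succ_injective _ h))]
    simp only [map_mul, pderiv_mul, hp, h, map_add]

omit [IsAlgClosed k] in
theorem aeval_dehom {R : Type*} [CommRing R] [Algebra k R] (r : Fin n → R) (g : MvPolynomial (Fin (n + 1)) k) :
    aeval r (dehom g) = aeval (Fin.cons 1 r : Fin (n + 1) → R) g := by
  rw [dehom, ← AlgHom.comp_apply, comp_aeval]
  congr 1
  apply algHom_ext
  intro i
  refine Fin.cases ?_ (fun l => ?_) i <;> simp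

omit [IsAlgClosed k] in
theorem eval_dehom (a : Fin n → k) (g : MvPolynomial (Fin (n + 1)) k) :
    eval a (dehom g) = eval (Fin.cons 1 a : Fin (n + 1) → k) g := by
  simpa [aeval_eq_eval] using aeval_dehom (R := k) a g

omit [IsAlgClosed k] in
/-- the homogeneous relations only depend on the ratios -/
theorem ker_scale {σ : Type*} [Fintype σ] {φ ψ : σ → K} {c : K} (hc : c ≠ 0) (h : ∀ i, φ i = c * ψ i) :
    RingHom.ker (aeval (R := k) fun i => Polynomial.C (φ i) * Polynomial.X) =
      RingHom.ker (aeval (R := k) fun i => Polynomial.C (ψ i) * Polynomial.X) := by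
  ext g
  rw [RingHom.mem_ker, RingHom.mem_ker, mem_cone_iff, mem_cone_iff, show φ = fun i => c * ψ i from funext h]
  refine forall_congr' fun m => ?_
  rw [aeval_scale (homogeneousComponent_isHomogeneous m g)]
  exact ⟨fun h' => (mul_eq_zero.1 h').resolve_left (pow_ne_zero _ hc), fun h' => by rw [h', mul_zero]⟩

omit [IsAlgClosed k] in
theorem mem_cone_of_hom {σ : Type*} [Fintype σ] {φ : σ → K} {g : MvPolynomial σ k} {m : ℕ}
    (hg : g.IsHomogeneous m) (h : aeval φ g = 0) :
    g ∈ RingHom.ker (aeval (R := k) fun i => Polynomial.C (φ i) * Polynomial.X) := by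
  classical
  rw [RingHom.mem_ker, mem_cone_iff]
  intro l
  rw [homogeneousComponent_of_mem hg]
  split_ifs
  · exact h
  · exact map_zero _

omit [IsAlgClosed k] in
theorem aeval_of_mem_cone {σ : Type*} [Fintype σ] {φ : σ → K} {g : MvPolynomial σ k}
    (h : g ∈ RingHom.ker (aeval (R := k) fun i => Polynomial.C (φ i) * Polynomial.X)) : aeval φ g = 0 := by
  rw [RingHom.mem_ker, mem_cone_iff] at h
  rw [← sum_homogeneousComponent g, map_sum]
  exact Finset.sum_eq_zero fun m _ => h m

variable {r : Fin n → K} {P : Place k K} {a : Fin n → k}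

theorem relSpan_eq {q : ℕ} (f : Fin q → MvPolynomial (Fin (n + 1)) k)
    (hgen : Ideal.span (Set.range f) =
      RingHom.ker (aeval (R := k) fun i => Polynomial.C ((Fin.cons 1 r : Fin (n + 1) → K) i) * Polynomial.X))
    (hr : ∀ j, P.1 (r j) ≤ 1) (ha : ∀ j, P.1 (r j - algebraMap k K (a j)) < 1) :
    relSpan r a = Submodule.span k (Set.range fun i => grad a (dehom (f i))) := by
  have hf0 : ∀ i, aeval r (dehom (f i)) = 0 := fun i => by
    rw [aeval_dehom]
    exact aeval_of_mem_cone (hgen ▸ Ideal.subset_span ⟨i, rfl⟩)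
  have he : ∀ i, eval a (dehom (f i)) = 0 := fun i =>
    eval_eq_zero hr ha (by rw [hf0, map_zero]; exact zero_lt_one)
  refine le_antisymm (Submodule.span_le.2 ?_) (Submodule.span_le.2 (Set.range_subset_iff.2 fun i =>
    Submodule.subset_span ⟨_, hf0 i, rfl⟩))
  rintro _ ⟨G, hG, rfl⟩
  have hmem : hom G.totalDegree G ∈ Ideal.span (Set.range f) := hgen ▸ mem_cone_of_hom (hom_isHomogeneous _ G)
    (by rw [← aeval_dehom, dehom_hom le_rfl, hG])
  obtain ⟨c, hc⟩ := Ideal.mem_span_range_iff_exists_fun.1 hmem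
  have e : G = ∑ i, dehom (c i) * dehom (f i) := by
    rw [← dehom_hom (m := G.totalDegree) (p := G) le_rfl, ← hc, map_sum]
    simp only [map_mul]
  have hg : grad a G = ∑ i, eval a (dehom (c i)) • grad a (dehom (f i)) := funext fun j => by
    conv_lhs => rw [e]
    simp [grad, he, Finset.sum_apply]
  rw [hg]
  exact sum_mem fun i _ => Submodule.smul_mem _ _ (Submodule.subset_span ⟨i, rfl⟩)

theorem unif_of_loc (hr : ∀ j, P.1 (r j) ≤ 1) (ha : ∀ j, P.1 (r j - algebraMap k K (a j)) < 1) {t : K}
    (ht : InLoc (Algebra.adjoin k (Set.range r)) P t) (htv : P.1 t = exp (-1)) :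
    ∃ c : Fin n → k, P.1 (∑ j, algebraMap k K (c j) * (r j - algebraMap k K (a j))) = exp (-1) := by
  obtain ⟨b, hb, w, hw, hw1, hbw⟩ := ht
  obtain ⟨G, rfl⟩ := mem_adjoin_iff_aeval.1 hb
  have hv : P.1 (aeval r G) = exp (-1) := by rw [← hbw, map_mul, htv, hw1, mul_one]
  have h0 : eval a G = 0 := eval_eq_zero hr ha (by rw [hv, ← exp_zero, exp_lt_exp]; norm_num)
  obtain ⟨H, hH, hG'⟩ := expansion a G
  have hh := congrArg (aeval r) hG'
  rw [h0] at hh
  simp only [map_add, map_sum, map_mul, map_sub, aeval_C, aeval_X, map_zero, zero_add] at hh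
  have hlt : P.1 (∑ j, (r j - algebraMap k K (a j)) * aeval r (H j)) < exp (-1) := by
    refine lt_of_le_of_lt (Valuation.map_sum_le _ (g := exp (-2)) fun j _ => ?_) (exp_lt_exp.2 (by norm_num))
    have hlt : P.1 (aeval r (H j)) < 1 := by
      have := aeval_residue hr ha (H j)
      rwa [hH, map_zero, sub_zero] at this
    rw [map_mul]
    refine (mul_le_mul' ((lt_one_iff_le _).1 (ha j)) ((lt_one_iff_le _).1 hlt)).trans ?_
    rw [← exp_add, exp_le_exp]; norm_num
  refine ⟨grad a G, ?_⟩
  rw [eq_sub_of_add_eq hh.symm, Valuation.map_sub_eq_of_lt_left _ (by rwa [hv]), hv]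

variable (hK : IsFunctionField k K)
include hK

theorem ns_iff_rank {φ : Fin (n + 1) → K} (hn : 1 ≤ n) (h0 : φ 0 ≠ 0) (hr0 : ∀ l, r l = φ l.succ / φ 0)
    (hP : ∀ i, P.1 (φ i) ≤ P.1 (φ 0)) (hbir : IntermediateField.adjoin k (Set.range fun i => φ i / φ 0) = ⊤)
    (ha : ∀ j, P.1 (r j - algebraMap k K (a j)) < 1) :
    IsNonsingularAt φ P ↔ Module.finrank k (relSpan r a) = n - 1 := by
  have hrange : ∀ i, φ i / φ 0 = (Fin.cons 1 r : Fin (n + 1) → K) i :=
    Fin.cases (by simp [h0]) fun l => by rw [Fin.cons_succ, hr0]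
  have hA : chartRing k φ 0 = Algebra.adjoin k (Set.range r) := by
    refine le_antisymm (Algebra.adjoin_le ?_) (Algebra.adjoin_le ?_)
    · rintro _ ⟨i, rfl⟩
      dsimp only
      rw [hrange]
      refine Fin.cases ?_ (fun l => ?_) i
      · rw [Fin.cons_zero]; exact one_mem _
      · rw [Fin.cons_succ]; exact Algebra.subset_adjoin ⟨l, rfl⟩
    · rintro _ ⟨l, rfl⟩
      exact Algebra.subset_adjoin ⟨l.succ, (hr0 l).symm⟩
  have hns : IsNonsingularAt φ P ↔ ∀ z : K, P.1 z ≤ 1 → InLoc (Algebra.adjoin k (Set.range r)) P z := by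
    simp only [IsNonsingularAt, inLocRing_iff h0 hP, hA]
  have hr : ∀ j, P.1 (r j) ≤ 1 := fun j => by rw [hr0]; exact ratio_le h0 hP _
  have hgen : IntermediateField.adjoin k (Set.range r) = ⊤ := by
    rw [eq_top_iff, ← hbir, IntermediateField.adjoin_le_iff]
    rintro _ ⟨i, rfl⟩
    dsimp only
    rw [hrange]
    refine Fin.cases ?_ (fun l => ?_) i
    · rw [Fin.cons_zero]; exact one_mem _
    · rw [Fin.cons_succ]; exact IntermediateField.subset_adjoin k _ ⟨l, rfl⟩
  rw [hns]
  constructor
  · intro h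
    obtain ⟨t, -, ht⟩ := exists_exp (P := P) (-1)
    exact (finrank_rel_of_ns hK hr ha
      (unif_of_loc hr ha (h t (by rw [ht, ← exp_zero, exp_le_exp]; norm_num)) ht) h).1
  · intro h
    have hne : relSpan r a ≠ ⊤ := fun e => by
      rw [e, finrank_top, Module.finrank_fin_fun] at h
      omega
    obtain ⟨lam, -, hlam⟩ := SetLike.exists_of_lt (lt_top_iff_ne_top.2 hne)
    refine loc_of_rel hK hgen hr ha (lam := lam) (Submodule.eq_top_of_finrank_eq ?_)
    have hlt : relSpan r a < relSpan r a ⊔ Submodule.span k {lam} :=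
      lt_of_le_of_ne le_sup_left fun e => hlam (e.symm ▸ Submodule.mem_sup_right (Submodule.mem_span_singleton_self lam))
    have h1 := Submodule.finrank_lt_finrank_of_lt hlt
    have h2 := Submodule.finrank_le (relSpan r a ⊔ Submodule.span k {lam})
    rw [Module.finrank_fin_fun] at h2 ⊢
    omega

omit hK [IsAlgClosed k] [Algebra k K] in
/-- the rank of a matrix is unchanged along an isomorphism of fields -/
theorem rank_map_eq {κ : Type*} [Field κ] [Algebra k κ] (hb : Function.Bijective (algebraMap k κ)) {q : ℕ}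
    (N : Matrix (Fin q) (Fin n) k) :
    (N.map (algebraMap k κ)).rank = Module.finrank k (Submodule.span k (Set.range N.row)) := by
  let l : (Fin n → k) →ₗ[k] (Fin n → κ) := (Algebra.linearMap k κ).compLeft (Fin n)
  have hl : Function.Injective l := fun x y h => funext fun i => hb.1 (congrFun h i)
  have h1 : Module.finrank k κ = 1 := by
    rw [← (LinearEquiv.ofBijective (Algebra.linearMap k κ) hb).finrank_eq, Module.finrank_self]
  rw [Matrix.rank_eq_finrank_span_row]
  set S := Set.range (N.map (algebraMap k κ)).row with hS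
  have h2 : Module.finrank k (Submodule.span κ S) = Module.finrank κ (Submodule.span κ S) := by
    rw [← Module.finrank_mul_finrank k κ (Submodule.span κ S), h1, one_mul]
  rw [← h2, (Submodule.equivMapOfInjective l hl (Submodule.span k (Set.range N.row))).finrank_eq, Submodule.map_span,
    ← Set.range_comp]
  have e : Submodule.restrictScalars k (Submodule.span κ S) = Submodule.span k S :=
    Submodule.restrictScalars_span k κ hb.2 S
  rw [← LinearEquiv.finrank_eq ((Submodule.restrictScalarsEquiv k κ (Fin n → κ) (Submodule.span κ S)).restrictScalars k),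
    e, hS]
  rfl

omit hK [IsAlgClosed k] in
theorem residue_eq_algebraMap (x : P.O) (c : k) (h : P.1 ((x : K) - algebraMap k K c) < 1) :
    IsLocalRing.residue P.O x = algebraMap k (IsLocalRing.ResidueField P.O) c := by
  refine sub_eq_zero.1 ?_
  show IsLocalRing.residue P.O x - IsLocalRing.residue P.O (algebraMap k P.O c) = 0
  rw [← map_sub, residue_eq_zero]
  exact h

end Groth.Agent.FunFldLib.Proj
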